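import Groth.Agent.BlowPointH1.Sections
import Groth.Agent.RegBlow6.Geometry
import Groth.Agent.BlowUpLib.Local
import Groth.Agent.Lib.BlowUpInt
import Groth.Agent.RegLoc6.Basic
import Groth.Prelude.Def_Curv2

/-! Vanishing of `H¹` of globally generated modules on the blow-up of a closed regular point of a surface. -/

set_option autoImplicit false
set_option linter.style.haveILetI false
set_option backward.isDefEq.respectTransparency false
set_option backward.isDefEq.respectTransparency.types false

universe u

open CategoryTheory CategoryTheory.Limits AlgebraicGeometry TopologicalSpace Opposite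

namespace Groth.Agent.BlowPointH1

open BlowUpLib

variable {A : Type u} [CommRing A] {I : Ideal A} {X : Scheme.{u}} (e : localBlowUp I ≅ X) (b : X ⟶ Spec (CommRingCat.of A))

/-- The structure map to global functions. -/
noncomputable def strGlob : A →+* Γ(X, ⊤) :=
  ((Scheme.ΓSpecIso (CommRingCat.of A)).inv ≫ b.appTop).hom

/-- A chart of the blow-up. -/
noncomputable abbrev chartX (a : I) : Spec (CommRingCat.of (BlowUp.affineAlgebra A I (a : A))) ⟶ X :=
  chart I a ≫ e.hom

/-- The open of a chart. -/
noncomputable abbrev chartOpen (a : I) : X.Opens := chartX e a ''ᵁ ⊤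

theorem isAffineOpen_chartOpen (a : I) : IsAffineOpen (chartOpen e a) :=
  (isAffineOpen_top _).image_of_isOpenImmersion _

/-- Functions on a chart. -/
noncomputable def chartFun (a : I) : Γ(X, chartOpen e a) ≅ CommRingCat.of (BlowUp.affineAlgebra A I (a : A)) :=
  (chartX e a).appIso ⊤ ≪≫ Scheme.ΓSpecIso _

variable (hb : e.hom ≫ b = toBase I)

include hb in
theorem chartFun_str (a : I) (r : A) :
    (chartFun e a).hom (X.presheaf.map (homOfLE (le_top : chartOpen e a ≤ ⊤)).op (strGlob b r)) =
      algebraMap A (BlowUp.affineAlgebra A I (a : A)) r := by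
  have h1 : X.presheaf.map (homOfLE (le_top : chartOpen e a ≤ ⊤)).op ≫ (chartFun e a).hom =
      (chartX e a).appTop ≫ (Scheme.ΓSpecIso _).hom := by
    simp only [chartFun, Iso.trans_hom, Scheme.Hom.appIso_hom', ← Category.assoc]
    congr 1
    rw [Scheme.Hom.map_appLE]
    exact (Scheme.Hom.app_eq_appLE _).symm
  have h2 : ((Scheme.ΓSpecIso (CommRingCat.of A)).inv ≫ b.appTop) ≫ (chartX e a).appTop ≫ (Scheme.ΓSpecIso _).hom =
      CommRingCat.ofHom (algebraMap A (BlowUp.affineAlgebra A I (a : A))) := by
    rw [Category.assoc, ← Category.assoc b.appTop, ← Scheme.Hom.comp_appTop]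
    have h3 : chartX e a ≫ b = Spec.map (CommRingCat.ofHom (algebraMap A (BlowUp.affineAlgebra A I (a : A)))) := by
      rw [Category.assoc, hb, chart_toBase]
    rw [h3, Scheme.ΓSpecIso_naturality, Iso.inv_hom_id_assoc]
  refine (ConcreteCategory.congr_hom h1 (strGlob b r)).trans ?_
  refine Eq.trans ?_ (ConcreteCategory.congr_hom h2 r)
  simp only [strGlob, CommRingCat.hom_comp, RingHom.comp_apply]

/-- The ratio of an element of the ideal by the chart element. -/
noncomputable def ratio (a c : I) : BlowUp.affineAlgebra A I (a : A) :=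
  ⟨IsLocalization.mk' (Localization.Away (a : A)) (c : A) ⟨(a : A), Submonoid.mem_powers _⟩,
    Algebra.subset_adjoin ⟨c, c.2, rfl⟩⟩

theorem ratio_mul (a c : I) :
    ratio a c * algebraMap A (BlowUp.affineAlgebra A I (a : A)) a =
      algebraMap A (BlowUp.affineAlgebra A I (a : A)) c :=
  Subtype.ext (IsLocalization.mk'_spec _ _ _)

/-- The ratio as a function on the chart. -/
noncomputable def ratioX (a c : I) : Γ(X, chartOpen e a) := (chartFun e a).inv (ratio a c)

include hb in
theorem ratioX_mul (a c : I) :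
    ratioX e a c * X.presheaf.map (homOfLE (le_top : chartOpen e a ≤ ⊤)).op (strGlob b a) =
      X.presheaf.map (homOfLE (le_top : chartOpen e a ≤ ⊤)).op (strGlob b c) := by
  apply (chartFun e a).commRingCatIsoToRingEquiv.injective
  show (chartFun e a).hom _ = (chartFun e a).hom _
  rw [map_mul, chartFun_str e b hb, chartFun_str e b hb, ratioX, ← CommRingCat.comp_apply, Iso.inv_hom_id]
  exact ratio_mul a c

/-- The main computation. -/
theorem subsingleton_HH_one [IsDomain A] [IsIntegral X] [IsSeparated b] (a c : I) (ha : (a : A) ≠ 0)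
    (hc : (c : A) ≠ 0) (hI : I = Ideal.span {(a : A), (c : A)}) (hb : e.hom ≫ b = toBase I)
    {F : X.Modules} (hF : Coh.IsQCoh F) (hgg : Curv2.IsGloballyGenerated F) : Subsingleton (Coh.HH X F 1) := by
  let U := chartOpen e a
  let V := chartOpen e c
  have hU := isAffineOpen_chartOpen e a
  have hV := isAffineOpen_chartOpen e c
  let s := ratioX e a c
  let t := ratioX e c a
  have hcov : U ⊔ V = ⊤ := by
    refine top_le_iff.1 fun x _ => ?_
    obtain ⟨z, rfl⟩ := e.hom.surjective x
    obtain ⟨y, hy⟩ := chart_covers I z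
    by_contra hx
    simp only [Opens.mem_sup, not_or] at hx
    have hmem : ∀ d : I, e.hom z ∉ chartOpen e d → gen I d ∈ z.asHomogeneousIdeal.toIdeal := by
      intro d hd
      by_contra hn
      refine hd ?_
      have : z ∈ (chart I d).opensRange := by rw [opensRange_chart]; exact hn
      obtain ⟨w, rfl⟩ := this
      exact ⟨w, trivial, rfl⟩
    rw [opensRange_chart] at hy
    refine hy (RegBlow6.gen_linear_mem I z.asHomogeneousIdeal.toIdeal ![(a : A), (c : A)]
      (by simp [hI, Set.pair_comm]) (fun k => ?_) y)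
    fin_cases k
    · exact ⟨a.2, hmem a hx.1⟩
    · exact ⟨c.2, hmem c hx.2⟩
  let W := U ⊓ V
  have hW : IsAffineOpen W := by
    haveI : X.IsSeparated := ⟨by
      rw [show terminal.from X = b ≫ terminal.from _ from terminal.hom_ext _ _]; infer_instance⟩
    exact hU.inf hV
  let rU := X.presheaf.map (homOfLE (inf_le_left : W ≤ U)).op
  let rV := X.presheaf.map (homOfLE (inf_le_right : W ≤ V)).op
  let g : A → Γ(X, W) := fun r => X.presheaf.map (homOfLE (le_top : W ≤ ⊤)).op (strGlob b r)
  have hgU : ∀ r, rU (X.presheaf.map (homOfLE (le_top : U ≤ ⊤)).op (strGlob b r)) = g r := fun r => by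
    rw [← CommRingCat.comp_apply, ← Functor.map_comp]; rfl
  have hgV : ∀ r, rV (X.presheaf.map (homOfLE (le_top : V ≤ ⊤)).op (strGlob b r)) = g r := fun r => by
    rw [← CommRingCat.comp_apply, ← Functor.map_comp]; rfl
  have hst : rU s * rV t = 1 := by
    rcases (W : Set X).eq_empty_or_nonempty with hemp | hne
    · haveI : Subsingleton Γ(X, W) := by
        rw [show W = ⊥ from Opens.ext hemp]; infer_instance
      exact Subsingleton.elim _ _
    haveI : Nonempty (W : X.Opens) := hne.to_subtype
    have ha0 : g a ≠ 0 := fun h0 => by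
      rw [← hgU, ← map_zero rU.hom] at h0
      have h1 : X.presheaf.map (homOfLE (le_top : U ≤ ⊤)).op (strGlob b a) = 0 :=
        map_injective_of_isIntegral X (homOfLE (inf_le_left : W ≤ U)) h0
      have h2 := chartFun_str e b hb a (a : A)
      rw [h1, map_zero] at h2
      have h3 := congrArg Subtype.val h2.symm
      exact ha ((IsLocalization.injective (Localization.Away (a : A))
        (powers_le_nonZeroDivisors_of_noZeroDivisors ha)) (h3.trans (map_zero _).symm))
    have h1 : rU s * g a = g c := by rw [← hgU, ← hgU, ← map_mul, ratioX_mul e b hb]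
    have h2 : rV t * g c = g a := by rw [← hgV, ← hgV, ← map_mul, ratioX_mul e b hb]
    haveI : IsDomain Γ(X, W) := inferInstance
    exact mul_right_cancel₀ ha0 (by rw [one_mul, mul_comm (rU s), mul_assoc, h1, h2])
  have hWb : X.basicOpen s = W := by
    refine le_antisymm (le_inf (X.basicOpen_le _) ?_) ?_
    · intro x hx
      obtain ⟨p, -, rfl⟩ := X.basicOpen_le s hx
      have h1 : p ∈ (chartX e a) ⁻¹ᵁ X.basicOpen s := hx
      rw [Scheme.preimage_basicOpen] at h1
      have h2 : p ∈ PrimeSpectrum.basicOpen (ratio a c) := by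
        have e1 : (Scheme.ΓSpecIso _).hom ((chartX e a).appLE U ⊤ (by rw [Scheme.Hom.preimage_image_eq])
            s) = ratio a c := by
          show ((chartFun e a).inv ≫ ((chartX e a).appLE U ⊤ _ ≫ (Scheme.ΓSpecIso _).hom)) (ratio a c) = _
          rw [show (chartX e a).appLE U ⊤ _ ≫ (Scheme.ΓSpecIso _).hom = (chartFun e a).hom from by
            rw [chartFun, Iso.trans_hom, Scheme.Hom.appIso_hom'], Iso.inv_hom_id]
          rfl
        rw [← e1, ← basicOpen_eq_of_affine']
        rw [Scheme.Hom.appLE, CommRingCat.comp_apply, Scheme.basicOpen_res]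
        exact ⟨trivial, h1⟩
      obtain ⟨q, hq⟩ := chart_overlap I c a h2
      exact ⟨q, trivial, by show e.hom ((chart I c) q) = e.hom ((chart I a) p); rw [hq]⟩
    · intro x hx
      have hu : IsUnit (rU s) := IsUnit.of_mul_eq_one _ hst
      have : x ∈ X.basicOpen (rU s) := by rw [X.basicOpen_of_isUnit hu]; exact hx
      rw [Scheme.basicOpen_res] at this
      exact this.2
  let P : Set Γ(X, W) := {z | ∃ p : Γ(X, U), ∃ q : Γ(X, V), rU p - rV q = z}
  have hadd : ∀ z w, z ∈ P → w ∈ P → z + w ∈ P := by
    rintro _ _ ⟨p, q, rfl⟩ ⟨p', q', rfl⟩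
    exact ⟨p + p', q + q', by rw [map_add, map_add]; ring⟩
  have hfun : ∀ z : Γ(X, W), z ∈ P := by
    intro z
    letI : Algebra Γ(X, U) Γ(X, W) := rU.hom.toAlgebra
    haveI : IsLocalization.Away s Γ(X, W) :=
      hU.isLocalization_of_eq_basicOpen s (homOfLE inf_le_left) hWb.symm
    obtain ⟨n, f, hf⟩ : ∃ (n : ℕ) (f : Γ(X, U)), z * rU s ^ n = rU f := by
      obtain ⟨⟨f, ⟨_, n, rfl⟩⟩, hf⟩ := IsLocalization.surj (Submonoid.powers s) z
      exact ⟨n, f, by rw [← map_pow]; exact hf⟩
    have hzf : z = rU f * rV t ^ n := by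
      rw [← hf, mul_assoc, ← mul_pow, hst, one_pow, mul_one]
    rw [hzf]
    let cU : A →+* Γ(X, U) := (X.presheaf.map (homOfLE (le_top : U ≤ ⊤)).op).hom.comp (strGlob b)
    have hgen : ∀ f : Γ(X, U), ∃ Q : Polynomial A, Q.eval₂ cU s = f := by
      intro f
      let ε : BlowUp.affineAlgebra A I (a : A) →+* Γ(X, U) := (chartFun e a).inv.hom
      let T : Subalgebra A (BlowUp.affineAlgebra A I (a : A)) := Algebra.adjoin A {ratio a c}
      have hT : T = ⊤ := by
        apply Subalgebra.map_injective (f := (BlowUp.affineAlgebra A I (a : A)).val) Subtype.val_injective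
        rw [Algebra.map_top, Subalgebra.range_val, AlgHom.map_adjoin, Set.image_singleton]
        refine le_antisymm (Algebra.adjoin_le (Set.singleton_subset_iff.2 (ratio a c).2)) (Algebra.adjoin_le ?_)
        rintro _ ⟨r, hr, rfl⟩
        rw [hI, Ideal.mem_span_pair] at hr
        obtain ⟨u, v, rfl⟩ := hr
        have e2 : IsLocalization.mk' (Localization.Away (a : A)) (u * (a : A) + v * (c : A))
            ⟨(a : A), Submonoid.mem_powers _⟩ = algebraMap A (Localization.Away (a : A)) u +
              v • (ratio a c : Localization.Away (a : A)) := by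
          rw [IsLocalization.mk'_eq_iff_eq_mul, map_add, map_mul, map_mul, add_mul, Algebra.smul_def, mul_assoc,
            show (ratio a c : Localization.Away (a : A)) * algebraMap A (Localization.Away (a : A)) (a : A) =
              algebraMap A (Localization.Away (a : A)) (c : A) from IsLocalization.mk'_spec _ _ _]
        rw [e2]
        exact add_mem (Subalgebra.algebraMap_mem _ u)
          (Subalgebra.smul_mem _ (Algebra.self_mem_adjoin_singleton A _) v)
      have hmem : (chartFun e a).hom f ∈ T := hT ▸ Algebra.mem_top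
      rw [show T = Algebra.adjoin A {ratio a c} from rfl, Algebra.adjoin_singleton_eq_range_aeval] at hmem
      obtain ⟨Q, hQ⟩ := hmem
      refine ⟨Q, ?_⟩
      have h1 : cU = ε.comp (algebraMap A (BlowUp.affineAlgebra A I (a : A))) := RingHom.ext fun r => by
        apply (chartFun e a).commRingCatIsoToRingEquiv.injective
        show (chartFun e a).hom _ = (chartFun e a).hom ((chartFun e a).inv _)
        rw [← CommRingCat.comp_apply, Iso.inv_hom_id]
        exact chartFun_str e b hb a r
      rw [h1, show s = ε (ratio a c) from rfl, ← Polynomial.hom_eval₂, ← Polynomial.aeval_def]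
      show (chartFun e a).inv (Polynomial.aeval (ratio a c) Q) = f
      erw [hQ]
      rw [← CommRingCat.comp_apply, Iso.hom_inv_id]
      rfl
    obtain ⟨Q, rfl⟩ := hgen f
    clear hf hzf
    induction Q using Polynomial.induction_on' with
    | add p q hp hq => rw [Polynomial.eval₂_add, map_add, add_mul]; exact hadd _ _ hp hq
    | monomial k u =>
      rw [Polynomial.eval₂_monomial, map_mul, map_pow, show rU (cU u) = g u from hgU u, mul_assoc]
      rcases le_or_gt n k with hnk | hnk
      · refine ⟨cU u * s ^ (k - n), 0, ?_⟩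
        rw [map_zero, sub_zero, map_mul, map_pow, show rU (cU u) = g u from hgU u]
        conv_rhs => rw [← Nat.sub_add_cancel hnk, pow_add, mul_assoc, ← mul_pow, hst, one_pow, mul_one]
      · refine ⟨0, -((X.presheaf.map (homOfLE (le_top : V ≤ ⊤)).op (strGlob b u)) * t ^ (n - k)), ?_⟩
        rw [map_zero, zero_sub, map_neg, neg_neg, map_mul, map_pow, hgV]
        conv_rhs => rw [← Nat.sub_add_cancel hnk.le, pow_add, mul_left_comm (rU s ^ k), ← mul_pow, hst, one_pow, mul_one]
  obtain ⟨ι, σ, hσ⟩ := exists_generatedBy hgg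
  refine subsingleton_HH_one_of_cover hF hU hV hcov fun z => ?_
  have hz : z ∈ Submodule.span Γ(X, W) (Set.range fun i => F.presheaf.map (homOfLE (le_top : W ≤ ⊤)).op (σ i)) := by
    rw [span_eq_top hF hσ hW]; exact Submodule.mem_top
  suffices hh : ∀ r : Γ(X, W), ∃ (p : Γ(F, U)) (q : Γ(F, V)),
      F.presheaf.map (homOfLE (inf_le_left : W ≤ U)).op p - F.presheaf.map (homOfLE (inf_le_right : W ≤ V)).op q = r • z by
    obtain ⟨p, q, h⟩ := hh 1
    exact ⟨p, q, h.trans (one_smul _ _)⟩
  induction hz using Submodule.span_induction with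
  | zero => exact fun r => ⟨0, 0, by simp⟩
  | mem z hz =>
    obtain ⟨i, rfl⟩ := hz
    intro r
    obtain ⟨p, q, hpq⟩ := hfun r
    refine ⟨p • F.presheaf.map (homOfLE (le_top : U ≤ ⊤)).op (σ i),
      q • F.presheaf.map (homOfLE (le_top : V ≤ ⊤)).op (σ i), ?_⟩
    rw [Scheme.Modules.map_smul, Scheme.Modules.map_smul, ← ConcreteCategory.comp_apply, ← ConcreteCategory.comp_apply,
      ← Functor.map_comp, ← Functor.map_comp, ← hpq, sub_smul]
    rfl
  | add z w _ _ hz hw =>
    intro r
    obtain ⟨p, q, h⟩ := hz r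
    obtain ⟨p', q', h'⟩ := hw r
    refine ⟨p + p', q + q', ?_⟩
    rw [map_add, map_add, smul_add, ← h, ← h']
    abel
  | smul r' z _ hz =>
    intro r
    obtain ⟨p, q, h⟩ := hz (r * r')
    exact ⟨p, q, h.trans (mul_smul _ _ _)⟩

end Groth.Agent.BlowPointH1
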