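import Groth.Agent.KFlatLib.Scheme.Exact
import Groth.Agent.QCoh.Stalk
import Groth.Agent.QCoh.Bound
import Groth.Agent.QCoh.Ab.MV
import Groth.Agent.SiteBase.Cohom
import Groth.Prelude.Def_Curv2
import Groth.Prelude.Def_ProjUP

/-! First cohomology of globally generated modules on a union of two affines. -/

set_option autoImplicit false
set_option linter.style.haveILetI false
set_option backward.isDefEq.respectTransparency false
set_option backward.isDefEq.respectTransparency.types false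

universe u

open CategoryTheory CategoryTheory.Limits AlgebraicGeometry TopologicalSpace Opposite

namespace Groth.Agent.BlowPointH1

variable {X : Scheme.{u}}

/-- A globally generated module is generated by a family of global sections at all stalks. -/
theorem exists_generatedBy {F : X.Modules} (h : Curv2.IsGloballyGenerated F) :
    ∃ (ι : Type u) (s : ι → Γ(F, ⊤)), ProjUP.GeneratedBy F s := by
  obtain ⟨ι, p, hp⟩ := h
  let φ : ι → (Coh.structureModule X ⟶ F) := fun i =>
    Sigma.ι (fun _ : ι => SheafOfModules.unit X.ringCatSheaf) i ≫ p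
  refine ⟨ι, fun i => (φ i).app ⊤ (1 : Γ(X, ⊤)), fun x => eq_top_iff.2 fun m _ => ?_⟩
  let N := Submodule.span (X.presheaf.stalk x)
    (Set.range fun i => (F.presheaf.germ ⊤ x trivial).hom ((φ i).app ⊤ (1 : Γ(X, ⊤))))
  haveI : Epi ((KFlatLib.stalkAb x).map p) := inferInstance
  let q : (KFlatLib.stalkAb x).obj F ⟶ AddCommGrpCat.of (F.presheaf.stalk x ⧸ N) :=
    AddCommGrpCat.ofHom N.mkQ.toAddMonoidHom
  have key : (KFlatLib.stalkAb x).map p ≫ q = 0 := by
    refine (isColimitOfPreserves (KFlatLib.stalkAb x)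
      (colimit.isColimit (Discrete.functor fun _ : ι => SheafOfModules.unit X.ringCatSheaf))).hom_ext fun ⟨i⟩ => ?_
    rw [comp_zero]
    show (KFlatLib.stalkAb x).map (Sigma.ι (fun _ : ι => SheafOfModules.unit X.ringCatSheaf) i) ≫ _ = 0
    rw [← Functor.map_comp_assoc]
    ext t
    show N.mkQ ((KFlatLib.stalkAb x).map (φ i) t) = 0
    rw [Submodule.mkQ_apply, Submodule.Quotient.mk_eq_zero]
    obtain ⟨W, hxW, r, rfl⟩ := TopCat.Presheaf.exists_germ_eq (Coh.structureModule X).presheaf t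
    have e1 : (KFlatLib.stalkAb x).map (φ i) ((Coh.structureModule X).presheaf.germ W x hxW r) =
        F.presheaf.germ W x hxW ((φ i).app W r) :=
      TopCat.Presheaf.stalkFunctor_map_germ_apply (C := AddCommGrpCat) W x hxW
        ((Scheme.Modules.toPresheaf X).map (φ i)) r
    rw [e1]
    have e2 : (φ i).app W r = (show Γ(X, W) from r) • F.presheaf.map (homOfLE (le_top : W ≤ ⊤)).op
        ((φ i).app ⊤ (1 : Γ(X, ⊤))) := by
      rw [← QCoh.map_app_comm]
      have h1 : (Coh.structureModule X).presheaf.map (homOfLE (le_top : W ≤ ⊤)).op (1 : Γ(X, ⊤)) = (1 : Γ(X, W)) :=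
        map_one (X.presheaf.map (homOfLE (le_top : W ≤ ⊤)).op).hom
      erw [h1, ← (φ i).app_smul]
      exact congrArg ((φ i).app W) (mul_one (show Γ(X, W) from r)).symm
    rw [e2, QCoh.germ_smul', F.presheaf.germ_res_apply]
    exact N.smul_mem _ (Submodule.subset_span ⟨i, rfl⟩)
  obtain ⟨y, rfl⟩ := (AddCommGrpCat.epi_iff_surjective _).1 ‹Epi ((KFlatLib.stalkAb x).map p)› m
  exact (Submodule.Quotient.mk_eq_zero N).1 (ConcreteCategory.congr_hom key y)

/-- Generating global sections generate the sections over affines. -/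
theorem span_eq_top {F : X.Modules} (hF : Coh.IsQCoh F) {ι : Type u} {s : ι → Γ(F, ⊤)}
    (hs : ProjUP.GeneratedBy F s) {W : X.Opens} (hW : IsAffineOpen W) :
    Submodule.span Γ(X, W) (Set.range fun i => F.presheaf.map (homOfLE (le_top : W ≤ ⊤)).op (s i)) = ⊤ := by
  set N := Submodule.span Γ(X, W) (Set.range fun i => F.presheaf.map (homOfLE (le_top : W ≤ ⊤)).op (s i))
  refine eq_top_iff.2 fun m _ => ?_
  let I : Ideal Γ(X, W) := N.comap (LinearMap.toSpanSingleton Γ(X, W) Γ(F, W) m)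
  suffices hI : I = ⊤ by
    have h1 : (1 : Γ(X, W)) ∈ I := hI ▸ Submodule.mem_top
    simpa [I] using h1
  by_contra hne
  obtain ⟨q, hq, hIq⟩ := Ideal.exists_le_maximal I hne
  obtain ⟨x, hx, hxq⟩ := QCoh.exists_point hW ⟨q, hq.isPrime⟩
  letI := QCoh.stalkAlg (X := X) hx
  letI := QCoh.stalkModule F hx
  haveI := QCoh.isScalarTower_stalk F hx
  haveI := QCoh.isLocalization_stalk' hW hx
  haveI := QCoh.isLocalizedModule_germLin hF hW hx
  let P := (hW.primeIdealOf ⟨x, hx⟩).asIdeal.primeCompl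
  have hspan : (Submodule.span (X.presheaf.stalk x) (QCoh.germLin F hx '' (N : Set Γ(F, W)))) = ⊤ := by
    refine top_le_iff.1 ((hs x).ge.trans (Submodule.span_mono ?_))
    rintro _ ⟨i, rfl⟩
    refine ⟨_, Submodule.subset_span ⟨i, rfl⟩, ?_⟩
    exact F.presheaf.germ_res_apply (homOfLE le_top) x hx (s i)
  have hmem : QCoh.germLin F hx m ∈ Submodule.localized' (X.presheaf.stalk x) P (QCoh.germLin F hx) N := by
    rw [Submodule.localized'_eq_span, hspan]
    exact Submodule.mem_top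
  obtain ⟨n, hn, t, htn⟩ := hmem
  rw [IsLocalizedModule.mk'_eq_iff] at htn
  obtain ⟨c, hc⟩ := IsLocalizedModule.exists_of_eq (S := P) (f := QCoh.germLin F hx)
    (x₁ := n) (x₂ := (t : Γ(X, W)) • m) (htn.trans ((QCoh.germLin F hx).map_smul _ _).symm)
  have hct : (c : Γ(X, W)) * t ∈ I := by
    show ((c : Γ(X, W)) * t) • m ∈ N
    have hc' : (c : Γ(X, W)) • n = (c : Γ(X, W)) • (t : Γ(X, W)) • m := hc
    rw [mul_smul, ← hc']
    exact N.smul_mem _ hn
  have h2 := hIq hct
  rw [show q = (hW.primeIdealOf ⟨x, hx⟩).asIdeal from (congrArg PrimeSpectrum.asIdeal hxq).symm] at h2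
  exact (P.mul_mem c.2 t.2) h2

/-- Vanishing of `H¹` when differences of sections fill the overlap. -/
theorem subsingleton_HH_one_of_cover {M : X.Modules} (hM : Coh.IsQCoh M) {U V : X.Opens} (hU : IsAffineOpen U)
    (hV : IsAffineOpen V) (hcov : U ⊔ V = ⊤)
    (h : ∀ z : Γ(M, U ⊓ V), ∃ (a : Γ(M, U)) (b : Γ(M, V)),
      M.presheaf.map (homOfLE (inf_le_left : U ⊓ V ≤ U)).op a -
        M.presheaf.map (homOfLE (inf_le_right : U ⊓ V ≤ V)).op b = z) :
    Subsingleton (Coh.HH X M 1) := by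
  refine QCoh.Ab.subsingleton_H_of_HU_top (X := X.toPresheafedSpace.carrier) (QCoh.abSheaf M) 1 ?_
  rw [← hcov]
  let F : CohTop.Ab X.toPresheafedSpace.carrier := QCoh.abSheaf M
  let S := Opens.mayerVietorisSquare U V
  have hex := (S.sequence_exact F 0 1 rfl).exact 2
  rw [ShortComplex.ab_exact_iff] at hex
  have hex1 := (S.sequence_exact F 0 1 rfl).exact 1
  rw [ShortComplex.ab_exact_iff] at hex1
  refine subsingleton_of_forall_eq 0 fun x => ?_
  have hsub : Subsingleton (F.H' 1 S.X₂ ⊞ F.H' 1 S.X₃ : AddCommGrpCat.{u}) :=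
    have : Subsingleton ((F.H' 1 S.X₂ : AddCommGrpCat.{u}) × (F.H' 1 S.X₃ : AddCommGrpCat.{u})) :=
      ⟨fun a b => Prod.ext ((QCoh.subsingleton_HU_of_isAffineOpen hM hU 0).elim _ _)
        ((QCoh.subsingleton_HU_of_isAffineOpen hM hV 0).elim _ _)⟩
    (AddCommGrpCat.biprodIsoProd _ _).addCommGroupIsoToAddEquiv.toEquiv.subsingleton
  obtain ⟨y, hy⟩ := hex x (hsub.elim _ _)
  let e := SiteBase.huZero F (U ⊓ V)
  obtain ⟨a, b, hab⟩ := h (e y)
  have hy' : ∃ w, S.fromBiprod F 0 w = y := by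
    refine ⟨(AddCommGrpCat.biprodIsoProd _ _).inv ⟨(SiteBase.huZero F U).symm a, (SiteBase.huZero F V).symm b⟩, ?_⟩
    rw [S.fromBiprod_biprodIsoProd_inv_apply]
    apply e.injective
    rw [map_sub]
    have key : ∀ {W W' : X.Opens} (hle : W ≤ W') (z : CohTop.HU F 0 W'),
        SiteBase.huZero F W (((Sheaf.cohomologyPresheaf F 0).map (homOfLE hle).op).hom z) =
          (F.obj.map (homOfLE hle).op).hom (SiteBase.huZero F W' z) := by
      intro W W' hle z
      obtain ⟨φ, rfl⟩ : ∃ φ, Abelian.Ext.mk₀ φ = z :=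
        ⟨Abelian.Ext.addEquiv₀ z, Abelian.Ext.addEquiv₀.symm_apply_apply z⟩
      show SiteBase.huZero F W ((Abelian.Ext.mk₀ _).comp (Abelian.Ext.mk₀ φ) (zero_add 0)) = _
      rw [Abelian.Ext.mk₀_comp_mk₀, SiteBase.huZero_mk₀, SiteBase.huZero_mk₀]
      exact SiteBase.secEquiv_freeSheafMap (J := Opens.grothendieckTopology X.toPresheafedSpace.carrier) (homOfLE hle) φ
    refine (congrArg₂ (· - ·) (key (inf_le_left : U ⊓ V ≤ U) _) (key (inf_le_right : U ⊓ V ≤ V) _)).trans ?_
    rw [AddEquiv.apply_symm_apply, AddEquiv.apply_symm_apply]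
    exact hab
  obtain ⟨w, rfl⟩ := hy'
  rw [← hy]
  exact ConcreteCategory.congr_hom ((S.sequence_exact F 0 1 rfl).toIsComplex.zero 1) w

end Groth.Agent.BlowPointH1
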